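import Mathlib.RingTheory.Artinian.Module
import Mathlib.RingTheory.TensorProduct.Basic
import Mathlib.RingTheory.TensorProduct.Finite
import Mathlib.LinearAlgebra.Dual.Lemmas
import Mathlib.FieldTheory.IsAlgClosed.AlgebraicClosure
import Mathlib.Algebra.Module.Submodule.Union
import Mathlib.Algebra.Algebra.Operations

/-!
# A generating subspace of codimension one in a finite algebra squares to everything
-/

set_option autoImplicit false
set_option linter.all false

universe u

open scoped TensorProduct Pointwise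

namespace GrothLib.ZeroSub9

theorem mul_self_eq_top_of_infinite {K A : Type*} [Field K] [Infinite K] [CommRing A] [Algebra K A]
    [FiniteDimensional K A] (V : Submodule K A) (a₀ : A)
    (h : ∀ b : A, ∃ v ∈ V, ∃ c : K, b = v + c • a₀) {n : ℕ} (hn : 1 ≤ n) (hV : V ^ n = ⊤) :
    V * V = ⊤ := by
  haveI : IsArtinianRing A := isArtinian_of_tower K inferInstance
  haveI : Finite (MaximalSpectrum A) := inferInstance
  let p : MaximalSpectrum A → Submodule K V := fun m => (m.asIdeal.restrictScalars K).comap V.subtype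
  obtain ⟨u, hu⟩ := Submodule.exists_forall_notMem_of_forall_ne_top p fun m hm => by
    have hle : V ≤ m.asIdeal.restrictScalars K := fun v hv => by
      have hv' : (⟨v, hv⟩ : V) ∈ p m := hm ▸ Submodule.mem_top
      exact hv'
    have h1 : (1 : A) ∈ V ^ n := hV ▸ Submodule.mem_top
    obtain ⟨n', rfl⟩ : ∃ n', n = n' + 1 := ⟨n - 1, by omega⟩
    rw [pow_succ] at h1
    refine m.isMaximal.ne_top ((Ideal.eq_top_iff_one _).2 ?_)
    refine Submodule.mul_induction_on h1 (fun a _ b hb => ?_) fun a b ha hb => add_mem ha hb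
    exact Ideal.mul_mem_left _ a (hle hb)
  have hunit : IsUnit (u : A) := by
    by_contra hnu
    obtain ⟨M, hM, huM⟩ := exists_max_ideal_of_mem_nonunits hnu
    exact hu ⟨M, hM⟩ huM
  obtain ⟨w, hw⟩ := hunit
  let μ : A →ₗ[K] A := LinearMap.mulLeft K (↑w⁻¹ : A)
  let W : Submodule K A := V.map μ
  have h1 : (1 : A) ∈ W := ⟨u, u.2, by show (↑w⁻¹ : A) * (u : A) = 1; rw [← hw]; exact w.inv_mul⟩
  have hWn : ∀ m, ∀ x ∈ V ^ m, (↑w⁻¹ : A) ^ m * x ∈ W ^ m := fun m x hx => by
    induction hx using Submodule.pow_induction_on_left' with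
    | algebraMap r =>
      simp only [Submodule.pow_zero, pow_zero, one_mul]
      exact Submodule.algebraMap_mem r
    | add x y i hx hy ihx ihy => rw [mul_add]; exact add_mem ihx ihy
    | mem_mul v hv i x hx ih =>
      rw [pow_succ' (↑w⁻¹ : A), pow_succ' W, mul_mul_mul_comm]
      exact Submodule.mul_mem_mul ⟨v, hv, rfl⟩ ih
  have hWtop : W ^ n = ⊤ := eq_top_iff.2 fun x _ => by
    have := hWn n ((↑w : A) ^ n * x) (hV ▸ Submodule.mem_top)
    rwa [← mul_assoc, ← mul_pow, w.inv_mul, one_pow, one_mul] at this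
  have hle : W ≤ W * W := fun x hx => by simpa using Submodule.mul_mem_mul hx h1
  have hWW : W * W = ⊤ := by
    by_contra hne
    have hsub : W * W ≤ W := fun s hs => by
      by_contra hsW
      obtain ⟨v, hv, c, hc⟩ := h ((↑w : A) * s)
      have hs' : s = (↑w⁻¹ : A) * v + c • ((↑w⁻¹ : A) * a₀) := by
        rw [← mul_smul_comm, ← mul_add, ← hc, ← mul_assoc, w.inv_mul, one_mul]
      have hc0 : c ≠ 0 := fun h0 => hsW (by rw [hs', h0, zero_smul, add_zero]; exact ⟨v, hv, rfl⟩)
      have ha : (↑w⁻¹ : A) * a₀ ∈ W * W := by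
        have h2 : c • ((↑w⁻¹ : A) * a₀) ∈ W * W := by
          rw [show c • ((↑w⁻¹ : A) * a₀) = s - (↑w⁻¹ : A) * v from eq_sub_of_add_eq' hs'.symm]
          exact sub_mem hs (hle ⟨v, hv, rfl⟩)
        simpa [smul_smul, inv_mul_cancel₀ hc0] using Submodule.smul_mem _ c⁻¹ h2
      refine hne (eq_top_iff.2 fun x _ => ?_)
      obtain ⟨v', hv', c', hc'⟩ := h ((↑w : A) * x)
      have hx' : x = (↑w⁻¹ : A) * v' + c' • ((↑w⁻¹ : A) * a₀) := by
        rw [← mul_smul_comm, ← mul_add, ← hc', ← mul_assoc, w.inv_mul, one_mul]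
      rw [hx']
      exact add_mem (hle ⟨v', hv', rfl⟩) (Submodule.smul_mem _ c' ha)
    have hpow : ∀ m, 1 ≤ m → W ^ m ≤ W := by
      intro m hm
      induction m, hm using Nat.le_induction with
      | base => rw [pow_one]
      | succ m _ ih => rw [pow_succ]; exact (mul_le_mul' ih le_rfl).trans hsub
    exact hne (eq_top_iff.2 fun x _ => hle (hpow n hn (hWtop ▸ Submodule.mem_top)))
  refine eq_top_iff.2 fun x _ => ?_
  have hx : (↑w⁻¹ : A) * ↑w⁻¹ * x ∈ W * W := hWW ▸ Submodule.mem_top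
  have key : ∀ y ∈ W * W, (↑w : A) * ↑w * y ∈ V * V := fun y hy => by
    refine Submodule.mul_induction_on hy ?_ fun a b ha hb => by rw [mul_add]; exact add_mem ha hb
    rintro _ ⟨a, ha, rfl⟩ _ ⟨b, hb, rfl⟩
    have e : (↑w : A) * ↑w * (μ a * μ b) = a * b := by
      show (↑w : A) * ↑w * ((↑w⁻¹ * a) * (↑w⁻¹ * b)) = a * b
      calc _ = ((↑w : A) * ↑w⁻¹) * ((↑w : A) * ↑w⁻¹) * (a * b) := by ring
        _ = _ := by rw [w.mul_inv, one_mul, one_mul]
    rw [e]
    exact Submodule.mul_mem_mul ha hb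
  have := key _ hx
  rwa [show (↑w : A) * ↑w * (↑w⁻¹ * ↑w⁻¹ * x) = ((↑w : A) * ↑w⁻¹) * ((↑w : A) * ↑w⁻¹) * x by ring,
    w.mul_inv, one_mul, one_mul] at this

/-- **Squares of generating subspaces of codimension one.** -/
theorem mul_self_eq_top {k : Type u} {A : Type*} [Field k] [CommRing A] [Algebra k A] [FiniteDimensional k A]
    (V : Submodule k A) (a₀ : A) (h : ∀ b : A, ∃ v ∈ V, ∃ c : k, b = v + c • a₀) {n : ℕ} (hn : 1 ≤ n)
    (hV : V ^ n = ⊤) : V * V = ⊤ := by
  let K := AlgebraicClosure k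
  haveI : Infinite K := IsAlgClosed.instInfinite
  let VK : Submodule K (K ⊗[k] A) := V.baseChange K
  have hpow : ∀ m, ∀ x ∈ V ^ m, (1 : K) ⊗ₜ[k] x ∈ VK ^ m := fun m x hx => by
    induction hx using Submodule.pow_induction_on_left' with
    | algebraMap r =>
      rw [Submodule.pow_zero, Algebra.algebraMap_eq_smul_one, TensorProduct.tmul_smul,
        ← Algebra.TensorProduct.one_def]
      exact Submodule.smul_of_tower_mem _ r (Submodule.one_le.1 le_rfl)
    | add x y i hx hy ihx ihy => rw [TensorProduct.tmul_add]; exact add_mem ihx ihy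
    | mem_mul v hv i x hx ih =>
      rw [pow_succ' VK, show (1 : K) ⊗ₜ[k] (v * x) = ((1 : K) ⊗ₜ[k] v) * ((1 : K) ⊗ₜ[k] x) by
        rw [Algebra.TensorProduct.tmul_mul_tmul, one_mul]]
      exact Submodule.mul_mem_mul (Submodule.tmul_mem_baseChange_of_mem 1 hv) ih
  have htmul : ∀ (P : Submodule K (K ⊗[k] A)), (∀ x : A, (1 : K) ⊗ₜ[k] x ∈ P) → P = ⊤ := fun P hP =>
    eq_top_iff.2 fun z _ => by
      induction z using TensorProduct.induction_on with
      | zero => exact zero_mem _
      | tmul a x =>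
        have := P.smul_mem a (hP x)
        rwa [TensorProduct.smul_tmul', smul_eq_mul, mul_one] at this
      | add y z hy hz => exact add_mem (hy trivial) (hz trivial)
  have hK := mul_self_eq_top_of_infinite VK ((1 : K) ⊗ₜ[k] a₀) (fun z => by
    induction z using TensorProduct.induction_on with
    | zero => exact ⟨0, zero_mem _, 0, by rw [zero_smul, add_zero]⟩
    | tmul a x =>
      obtain ⟨v, hv, c, rfl⟩ := h x
      refine ⟨a ⊗ₜ v, Submodule.tmul_mem_baseChange_of_mem a hv, c • a, ?_⟩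
      rw [TensorProduct.tmul_add]
      congr 1
      rw [TensorProduct.smul_tmul', smul_eq_mul, mul_one, TensorProduct.smul_tmul]
    | add y z hy hz =>
      obtain ⟨v, hv, c, rfl⟩ := hy
      obtain ⟨v', hv', c', rfl⟩ := hz
      exact ⟨v + v', add_mem hv hv', c + c', by rw [add_smul]; abel⟩) hn
    (htmul _ fun x => hpow n x (hV ▸ Submodule.mem_top))
  by_contra hne
  obtain ⟨φ, hφ0, hφ⟩ := Submodule.exists_dual_map_eq_bot_of_lt_top (lt_top_iff_ne_top.2 hne) inferInstance
  have hle : VK * VK ≤ LinearMap.ker (φ.baseChange K) := Submodule.mul_le.2 fun a ha b hb => by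
    simp only [VK, Submodule.baseChange_eq_span] at ha hb
    have hab : a * b ∈ Submodule.span K ((V.map (TensorProduct.mk k K A 1) : Set (K ⊗[k] A)) *
        (V.map (TensorProduct.mk k K A 1) : Set (K ⊗[k] A))) := by
      rw [← Submodule.span_mul_span]; exact Submodule.mul_mem_mul ha hb
    refine Submodule.span_le.2 ?_ hab
    rintro _ ⟨_, ⟨p, hp, rfl⟩, _, ⟨q, hq, rfl⟩, rfl⟩
    show φ.baseChange K (((1 : K) ⊗ₜ[k] p) * ((1 : K) ⊗ₜ[k] q)) = 0
    rw [Algebra.TensorProduct.tmul_mul_tmul, LinearMap.baseChange_tmul]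
    have : φ (p * q) ∈ (V * V).map φ := Submodule.mem_map_of_mem (Submodule.mul_mem_mul hp hq)
    rw [hφ, Submodule.mem_bot] at this
    rw [this, TensorProduct.tmul_zero]
  refine hφ0 (LinearMap.ext fun x => ?_)
  have hx := LinearMap.mem_ker.1 (hle (hK ▸ Submodule.mem_top (x := (1 : K) ⊗ₜ[k] x)))
  rw [LinearMap.baseChange_tmul] at hx
  have hx' := congrArg (TensorProduct.rid k K) hx
  rw [TensorProduct.rid_tmul, map_zero, Algebra.smul_def, mul_one] at hx'
  exact (algebraMap k K).injective (hx'.trans (map_zero _).symm)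

end GrothLib.ZeroSub9
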