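import Groth.Agent.Lib.ZeroSub9.Pi
import Groth.Agent.Lib.SatProj10.Basic
import Groth.Agent.S10908
import Mathlib.RingTheory.Polynomial.UniqueFactorization
import Mathlib.RingTheory.Polynomial.RationalRoot

/-!
# Restriction of forms to zero-dimensional subschemes
-/

set_option autoImplicit false
set_option linter.all false
set_option backward.isDefEq.respectTransparency false
set_option maxHeartbeats 1000000

universe u

open CategoryTheory CategoryTheory.Limits AlgebraicGeometry TopologicalSpace Opposite MvPolynomial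
open GrothLib.Ample (res)
open GrothLib.Ample.ProjMap (cst ratio X_mem)
open GrothLib.CurveMult (SepImm.D)
open GrothLib.InvExt (mres fres IsGen)
open GrothLib.Ample.ProjTwist (gsec)

noncomputable section

namespace GrothLib.ZeroSub9

variable {k : Type u} [Field k] {N : ℕ}

local notation "PP" => CohB1.polyGrading N k

variable (Z : (CohB1.ProjSpace N k).IdealSheafData) [DiscreteTopology Z.subscheme]

/-- `O(d)` on the subscheme. -/
abbrev Md (d : ℕ) : Z.subscheme.Modules :=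
  (Scheme.Modules.pullback Z.subschemeι).obj (Twist.twist PP (d : ℤ))

/-- The unit. -/
abbrev η (d : ℕ) : Twist.twist PP (d : ℤ) ⟶ (Scheme.Modules.pushforward Z.subschemeι).obj (Md Z d) :=
  (Scheme.Modules.pullbackPushforwardAdjunction Z.subschemeι).unit.app (Twist.twist PP (d : ℤ))

/-- Restriction of a form as a section on the subscheme. -/
def rst (d : ℕ) (F : MvPolynomial (Fin (N + 1)) k) (hF : F ∈ PP d) : Γ(Md Z d, ⊤) :=
  (η Z d).app ⊤ (gsec PP F hF)

/-- The generator at a point. -/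
def eg (d : ℕ) (z : Z.subscheme) : Γ(Md Z d, O Z z) :=
  mres (Md Z d) (O_le Z z) (show Γ(Md Z d, Z.subschemeι ⁻¹ᵁ SepImm.D (k := k) (jj Z z)) from
    (η Z d).app (SepImm.D (k := k) (jj Z z))
      (mres (Twist.twist PP (d : ℤ)) le_top (gsec PP (X (jj Z z) ^ d) (Ample.ProjTwist.pow_mem PP (X_mem (jj Z z)) d))))

theorem isGen_eg (d : ℕ) (z : Z.subscheme) : IsGen (Md Z d) (O Z z) (eg Z d z) :=
  (VA.isGen_unit Z.subschemeι (CMReg.isInvertible_twist (n := N) (k := k) (d : ℤ))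
    (Ample.ProjTwist.isGen_gsec (X_mem (jj Z z)) d)).restrict (O_le Z z)

theorem rst_eq (d : ℕ) (F : MvPolynomial (Fin (N + 1)) k) (hF : F ∈ PP d) (z : Z.subscheme) :
    mres (Md Z d) le_top (rst Z d F hF) = π Z z F • eg Z d z := by
  set j := jj Z z
  let ι := Z.subschemeι
  let w : Γ(CohB1.ProjSpace N k, SepImm.D (k := k) j) :=
    (Proj.awayToSection PP (X j)).hom (eval₂Hom (cst (X j)) (ratio j) F)
  have h1 : mres (Twist.twist PP (d : ℤ)) (le_top : SepImm.D (k := k) j ≤ ⊤) (gsec PP F hF) =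
      w • mres (Twist.twist PP (d : ℤ)) le_top (gsec PP (X j ^ d) (Ample.ProjTwist.pow_mem PP (X_mem j) d)) := by
    have h := SatProj10.mres_gsec (X_mem (R := k) j) F hF
    rw [h]
    congr 1
    exact congrArg (Proj.awayToSection PP (X j)).hom (eval_homog j d F (by simpa using hF)).symm
  have h2 : mres (Md Z d) (Z.subschemeι.preimage_mono (homOfLE (le_top : SepImm.D (k := k) j ≤ ⊤)).le)
      (rst Z d F hF) = (η Z d).app (SepImm.D (k := k) j) (mres (Twist.twist PP (d : ℤ)) le_top (gsec PP F hF)) :=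
    QCoh.map_app (η Z d) (homOfLE (le_top : SepImm.D (k := k) j ≤ ⊤)) (gsec PP F hF)
  have h3 : (show Γ(Md Z d, Z.subschemeι ⁻¹ᵁ SepImm.D (k := k) j) from (η Z d).app (SepImm.D (k := k) j)
      (w • mres (Twist.twist PP (d : ℤ)) le_top (gsec PP (X j ^ d) (Ample.ProjTwist.pow_mem PP (X_mem j) d)))) =
      (show Γ(Z.subscheme, Z.subschemeι ⁻¹ᵁ SepImm.D (k := k) j) from Z.subschemeι.app _ w) •
        (show Γ(Md Z d, Z.subschemeι ⁻¹ᵁ SepImm.D (k := k) j) from (η Z d).app (SepImm.D (k := k) j)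
          (mres (Twist.twist PP (d : ℤ)) le_top (gsec PP (X j ^ d) (Ample.ProjTwist.pow_mem PP (X_mem j) d)))) :=
    Scheme.Modules.Hom.app_smul _ _ _
  rw [show mres (Md Z d) le_top (rst Z d F hF) = mres (Md Z d) (O_le Z z)
      (mres (Md Z d) (Z.subschemeι.preimage_mono (homOfLE (le_top : SepImm.D (k := k) j ≤ ⊤)).le) (rst Z d F hF)) from
    (InvExt.mres_mres _ _ _ _).symm]
  refine (congrArg (mres (Md Z d) (O_le Z z)) ((h2.trans (congrArg _ h1)).trans h3)).trans ?_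
  refine (InvExt.mres_smul _ _ _ _).trans ?_
  rfl

/-- Coordinates of a section. -/
theorem exists_coord (d : ℕ) (τ : Γ(Md Z d, ⊤)) :
    ∃ a : ∀ z, Γ(Z.subscheme, O Z z), ∀ z, mres (Md Z d) le_top τ = a z • eg Z d z := by
  have h : ∀ z, ∃ c : Γ(Z.subscheme, O Z z), mres (Md Z d) le_top τ = c • eg Z d z := fun z => by
    obtain ⟨c, hc⟩ := (isGen_eg Z d z).exists_smul_eq le_rfl (mres (Md Z d) le_top τ)
    rw [InvExt.mres_self] at hc
    exact ⟨c, hc⟩
  choose a ha using h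
  exact ⟨a, ha⟩

theorem coord_unique (d : ℕ) (z : Z.subscheme) {a b : Γ(Z.subscheme, O Z z)}
    (h : a • eg Z d z = b • eg Z d z) : a = b :=
  (isGen_eg Z d z).smul_left_injective le_rfl (by rwa [InvExt.mres_self])

theorem ext_sec (d : ℕ) {τ τ' : Γ(Md Z d, ⊤)}
    (h : ∀ z, mres (Md Z d) (le_top : O Z z ≤ ⊤) τ = mres (Md Z d) le_top τ') : τ = τ' :=
  TopCat.Sheaf.eq_of_locally_eq' ⟨(Md Z d).presheaf, (Md Z d).isSheaf⟩ (fun z => O Z z) ⊤
    (fun z => homOfLE le_top) (fun y _ => Opens.mem_iSup.2 ⟨y, mem_O Z y⟩) _ _ h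

theorem exists_sec (d : ℕ) (a : ∀ z, Γ(Z.subscheme, O Z z)) :
    ∃ τ : Γ(Md Z d, ⊤), ∀ z, mres (Md Z d) le_top τ = a z • eg Z d z := by
  obtain ⟨τ, hτ, -⟩ := TopCat.Sheaf.existsUnique_gluing' ⟨(Md Z d).presheaf, (Md Z d).isSheaf⟩ (fun z => O Z z) ⊤
    (fun z => homOfLE le_top) (fun y _ => Opens.mem_iSup.2 ⟨y, mem_O Z y⟩) (fun z => a z • eg Z d z) (by
      intro p q
      by_cases hpq : p = q
      · subst hpq; rfl
      · have hz : ∀ s : Γ(Md Z d, O Z p ⊓ O Z q), s = 0 := fun s =>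
          QCoh.section_eq_zero_of_germ _ s fun y hy => absurd
            ((show y = p from hy.1).symm.trans (show y = q from hy.2)) hpq
        exact (hz _).trans (hz _).symm)
  exact ⟨τ, hτ⟩

variable (hZ : topologicalKrullDim (Z.support : Set (CohB1.ProjSpace N k)) ≤ 0)

theorem isIntegrallyClosed_poly : IsIntegrallyClosed (MvPolynomial (Fin (N + 1)) k) :=
  UniqueFactorizationMonoid.instIsIntegrallyClosed

theorem gsec_surjective (s : Γ(Twist.twist PP ((1 : ℕ) : ℤ), ⊤)) :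
    ∃ (F : MvPolynomial (Fin (N + 1)) k) (hF : F ∈ PP 1), gsec PP F hF = s := by
  have hb := Groth.Agent.S10908.global_sections (PP) (fun i => by
    show homogeneousSubmodule (Fin (N + 1)) k 1 * homogeneousSubmodule (Fin (N + 1)) k i =
      homogeneousSubmodule (Fin (N + 1)) k (i + 1)
    rw [← homogeneousSubmodule_one_pow (σ := Fin (N + 1)) (R := k) i,
      ← homogeneousSubmodule_one_pow (σ := Fin (N + 1)) (R := k) (i + 1), pow_succ'])
    (fun h => MvPolynomial.X_ne_zero (R := k) (0 : Fin (N + 1))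
      ((Submodule.eq_bot_iff _).1 h _ (isHomogeneous_X k 0))) isIntegrallyClosed_poly 1
  obtain ⟨F, hF⟩ := hb.2 s
  exact ⟨F.1, F.2, hF⟩

include hZ in
/-- **Surjectivity in degree two.** -/
theorem surjective_two [Finite Z.subscheme] (v : Γ(Md Z 1, ⊤))
    (h : ∀ t : Γ(Md Z 1, ⊤), ∃ (s : Γ(Twist.twist PP ((1 : ℕ) : ℤ), ⊤)) (c : k),
      t = (show Γ(Md Z 1, ⊤) from (η Z 1).app ⊤ s) +
        (show Γ(Z.subscheme, ⊤) from Z.subschemeι.app ⊤ (Coh.toGlobal (CohB1.ProjSpace.toSpec N k) c)) • v)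
    (t : Γ(Md Z 2, ⊤)) : ∃ (F : MvPolynomial (Fin (N + 1)) k) (hF : F ∈ PP 2), rst Z 2 F hF = t := by
  obtain ⟨a₀, ha₀⟩ := exists_coord Z 1 v
  have htop := map_quadrics_eq_top Z hZ a₀ fun b => by
    obtain ⟨τ, hτ⟩ := exists_sec Z 1 b
    obtain ⟨s, c, hsc⟩ := h τ
    obtain ⟨F, hF, rfl⟩ := gsec_surjective s
    refine ⟨F, hF, c, funext fun z => coord_unique Z 1 z ?_⟩
    rw [← hτ z, hsc, Pi.add_apply, smul_A_apply, add_smul, mul_smul, ← ha₀ z]
    refine (map_add ((Md Z 1).presheaf.map _).hom _ _).trans (congrArg₂ (· + ·) (rst_eq Z 1 F hF z) ?_)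
    refine (InvExt.mres_smul _ _ _ _).trans ?_
    refine congrArg (fun q : Γ(Z.subscheme, O Z z) => q • mres (Md Z 1) (le_top : O Z z ≤ ⊤) v) ?_
    rw [π_C]
    rfl
  obtain ⟨a, ha⟩ := exists_coord Z 2 t
  obtain ⟨F, hF, hFa⟩ := htop.ge (Submodule.mem_top (x := a))
  refine ⟨F, hF, ext_sec Z 2 fun z => ?_⟩
  rw [rst_eq, ha z, ← hFa]
  rfl

omit [DiscreteTopology Z.subscheme] in
include hZ in
/-- The statement in cohomology. -/
theorem restrict_surjective :
    letI : (CohB1.ProjSpace N k).Over (Spec (CommRingCat.of k)) := ⟨CohB1.ProjSpace.toSpec N k⟩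
    (∃ v : (Coh.HH (CohB1.ProjSpace N k) ((Scheme.Modules.pushforward Z.subschemeι).obj
        ((Scheme.Modules.pullback Z.subschemeι).obj (Twist.twistProjSpace N k 1))) 0),
      ∀ t : (Coh.HH (CohB1.ProjSpace N k) ((Scheme.Modules.pushforward Z.subschemeι).obj
        ((Scheme.Modules.pullback Z.subschemeι).obj (Twist.twistProjSpace N k 1))) 0),
        ∃ (s : Coh.HH (CohB1.ProjSpace N k) (Twist.twistProjSpace N k 1) 0) (c : k),
        t = @id (Coh.HH (CohB1.ProjSpace N k) ((Scheme.Modules.pushforward Z.subschemeι).obj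
        ((Scheme.Modules.pullback Z.subschemeι).obj (Twist.twistProjSpace N k 1))) 0)
          (Sheaf.H.map ((SheafOfModules.toSheaf (CohB1.ProjSpace N k).ringCatSheaf).map
            ((Scheme.Modules.pullbackPushforwardAdjunction Z.subschemeι).unit.app (Twist.twistProjSpace N k 1))) 0 s) + c • v) →
    Function.Surjective (fun s : Coh.HH (CohB1.ProjSpace N k) (Twist.twistProjSpace N k 2) 0 =>
      @id (Coh.HH (CohB1.ProjSpace N k) ((Scheme.Modules.pushforward Z.subschemeι).obj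
        ((Scheme.Modules.pullback Z.subschemeι).obj (Twist.twistProjSpace N k 2))) 0)
          (Sheaf.H.map ((SheafOfModules.toSheaf (CohB1.ProjSpace N k).ringCatSheaf).map
            ((Scheme.Modules.pullbackPushforwardAdjunction Z.subschemeι).unit.app (Twist.twistProjSpace N k 2))) 0 s)) := by
  letI : (CohB1.ProjSpace N k).Over (Spec (CommRingCat.of k)) := ⟨CohB1.ProjSpace.toSpec N k⟩
  rintro ⟨v, hv⟩ t
  obtain ⟨hd, hfin⟩ := discrete Z hZ
  let T1 := ProjCoh.H0top ((Scheme.Modules.pushforward Z.subschemeι).obj (Md Z 1))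
  let T2 := ProjCoh.H0top ((Scheme.Modules.pushforward Z.subschemeι).obj (Md Z 2))
  obtain ⟨F, hF, hFt⟩ := surjective_two Z hZ (show Γ(Md Z 1, ⊤) from T1 v) (fun τ => by
    obtain ⟨s, c, hsc⟩ := hv (T1.symm (show Γ((Scheme.Modules.pushforward Z.subschemeι).obj (Md Z 1), ⊤) from τ))
    refine ⟨ProjCoh.H0top (Twist.twist PP ((1 : ℕ) : ℤ)) s, c, ?_⟩
    refine ((AddEquiv.apply_symm_apply T1 _).symm.trans (congrArg T1 hsc)).trans ?_
    refine (map_add T1 _ _).trans (congrArg₂ (· + ·) ?_ ?_)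
    · exact ProjCoh.H0top_map _ s
    · exact ProjCoh.H0top_smul _ c v) (show Γ(Md Z 2, ⊤) from T2 t)
  refine ⟨(ProjCoh.H0top (Twist.twist PP ((2 : ℕ) : ℤ))).symm (gsec PP F hF), T2.injective ?_⟩
  refine ((ProjCoh.H0top_map _ _).trans ?_).trans hFt
  exact congrArg ((η Z 2).app ⊤).hom (AddEquiv.apply_symm_apply _ _)

end GrothLib.ZeroSub9
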