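import Groth.Agent.Lib.CurveMult.SepImm
import Groth.Agent.Lib.Props8.DimZero
import Groth.Agent.Lib.AlgSp.DiscreteFibres
import Groth.Agent.Lib.Chow.Prod
import Groth.Agent.Lib.CMReg.ProjSpace
import Groth.Agent.Lib.NormGen9.Regular
import Groth.Agent.Lib.ProjCoh.Generic
import Groth.Agent.Lib.GradedAlg.ProjClosed
import Groth.Agent.Lib.ZeroSub9.Alg

/-!
# Forms on a zero-dimensional subscheme of projective space
-/

set_option autoImplicit false
set_option linter.all false
set_option backward.isDefEq.respectTransparency false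
set_option maxHeartbeats 1000000

universe u

open CategoryTheory CategoryTheory.Limits AlgebraicGeometry TopologicalSpace Opposite MvPolynomial
open GrothLib.Ample (res)
open GrothLib.Ample.ProjMap (cst ratio X_mem)
open GrothLib.CurveMult (SepImm.D SepImm.cD)
open HomogeneousLocalization (Away)

noncomputable section

namespace GrothLib.ZeroSub9

variable {k : Type u} [Field k] {N : ℕ}

local notation "PP" => CohB1.polyGrading N k

/-- On homogeneous elements the evaluation at the ratios is the fraction. -/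
theorem eval_homog (i : Fin (N + 1)) (m : ℕ) (a : MvPolynomial (Fin (N + 1)) k) (ha : a ∈ PP (m • 1)) :
    eval₂Hom (cst (X i)) (ratio i) a = Away.mk PP (X_mem i) m a ha := by
  refine HomogeneousLocalization.val_injective _ ?_
  let V : Away PP (X i) →+* Localization.Away (X i : MvPolynomial (Fin (N + 1)) k) := algebraMap _ _
  let F : MvPolynomial (Fin (N + 1)) k →+* Localization.Away (X i : MvPolynomial (Fin (N + 1)) k) :=
    V.comp (eval₂Hom (cst (X i)) (ratio i))
  have hF : ∀ l, algebraMap _ _ (X l) =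
      algebraMap _ (Localization.Away (X i : MvPolynomial (Fin (N + 1)) k)) (X i) * F (X l) := fun l => by
    simp only [F, V, RingHom.comp_apply, eval₂Hom_X']
    rw [mul_comm]
    exact (Ample.ProjMap.ratio_val i l).symm
  have h := Ample.ProjMap.map_eq_pow_mul F (algebraMap _ _) _ (fun r => by
    simp only [F, V, RingHom.comp_apply, eval₂Hom_C]
    exact (Ample.ProjMap.cst_val _ r).symm) hF m a (by simpa using ha)
  show F a = _
  rw [HomogeneousLocalization.Away.val_mk, Localization.mk_eq_mk', IsLocalization.eq_mk'_iff_mul_eq, map_pow,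
    mul_comm]
  exact h.symm

variable (Z : (CohB1.ProjSpace N k).IdealSheafData)
  (hZ : topologicalKrullDim (Z.support : Set (CohB1.ProjSpace N k)) ≤ 0)

include hZ in
theorem isClosed_point (z : Z.subscheme) : IsClosed ({z} : Set Z.subscheme) := by
  haveI := CMReg.isNoetherian_projSpace (n := N) (k := k)
  refine Props8.isClosed_singleton_of_dim_le_zero ?_ z
  let f : Z.subscheme → (Z.support : Set (CohB1.ProjSpace N k)) := fun y =>
    ⟨Z.subschemeι y, Z.range_subschemeι ▸ Set.mem_range_self y⟩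
  have hf : Topology.IsEmbedding f :=
    Z.subschemeι.isClosedEmbedding.isEmbedding.codRestrict _ _
  exact (hf.isInducing.topologicalKrullDim_le).trans hZ

include hZ in
theorem discrete : DiscreteTopology Z.subscheme ∧ Finite Z.subscheme := by
  haveI := CMReg.isNoetherian_projSpace (n := N) (k := k)
  haveI := LocallyOfFiniteType.isLocallyNoetherian Z.subschemeι
  haveI : CompactSpace Z.subscheme := QuasiCompact.compactSpace_of_compactSpace Z.subschemeι
  haveI := AlgSp.discreteTopology_of_isClosed_singleton Z.subscheme (isClosed_point Z hZ)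
  exact ⟨this, finite_of_compact_of_discrete⟩

variable [DiscreteTopology Z.subscheme]

/-- The open point. -/
def O (z : Z.subscheme) : Z.subscheme.Opens := ⟨{z}, isOpen_discrete _⟩

theorem mem_O (z : Z.subscheme) : z ∈ O Z z := rfl

theorem exists_chart (z : Z.subscheme) : ∃ j : Fin (N + 1), Z.subschemeι z ∈ SepImm.D (k := k) j := by
  obtain ⟨j, hj⟩ := Opens.mem_iSup.1 ((Ample.ProjMap.iSup_basicOpen_X N k).ge (Opens.mem_top (Z.subschemeι z)))
  exact ⟨j, hj⟩

/-- A chart at a point. -/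
def jj (z : Z.subscheme) : Fin (N + 1) := (exists_chart Z z).choose

theorem O_le (z : Z.subscheme) : O Z z ≤ Z.subschemeι ⁻¹ᵁ SepImm.D (k := k) (jj Z z) := by
  rintro y (rfl : y = z)
  exact (exists_chart Z y).choose_spec

/-- Forms as functions at a point. -/
def π (z : Z.subscheme) : MvPolynomial (Fin (N + 1)) k →+* Γ(Z.subscheme, O Z z) :=
  ((Z.subschemeι.appLE (SepImm.D (k := k) (jj Z z)) (O Z z) (O_le Z z)).hom.comp
    (Proj.awayToSection PP (X (jj Z z))).hom).comp (eval₂Hom (cst (X (jj Z z))) (ratio (jj Z z)))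

theorem π_C (z : Z.subscheme) (r : k) :
    π Z z (C r) = (Z.subschemeι.appLE ⊤ (O Z z) le_top).hom (Coh.toGlobal (CohB1.ProjSpace.toSpec N k) r) := by
  show (Z.subschemeι.appLE _ _ (O_le Z z)).hom (Proj.awayToSection PP _ (eval₂Hom (cst _) (ratio _) (C r))) = _
  rw [eval₂Hom_C, CurveMult.SepImm.awayToSection_cst]
  show ((CohB1.ProjSpace N k).presheaf.map (homOfLE (le_top : SepImm.D (k := k) (jj Z z) ≤ ⊤)).op ≫
    Z.subschemeι.appLE _ _ (O_le Z z)).hom _ = _
  rw [Scheme.Hom.map_appLE]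
  rfl

theorem π_X_self (z : Z.subscheme) : π Z z (X (jj Z z)) = 1 := by
  simp only [π, RingHom.comp_apply, eval₂Hom_X', CurveMult.SepImm.ratio_self, map_one]

theorem mem_basicOpen_π {d : ℕ} (z : Z.subscheme) (G : MvPolynomial (Fin (N + 1)) k) (hG : G ∈ PP d) :
    z ∈ Z.subscheme.basicOpen (π Z z G) ↔ Z.subschemeι z ∈ Proj.basicOpen PP G := by
  set j := jj Z z
  let w := eval₂Hom (cst (X j)) (ratio j) G
  have h1 : z ∈ Z.subscheme.basicOpen (π Z z G) ↔
      Z.subschemeι z ∈ (CohB1.ProjSpace N k).basicOpen (Proj.awayToSection PP (X j) w) := by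
    show z ∈ Z.subscheme.basicOpen ((Z.subschemeι.appLE _ _ _).hom _) ↔ _
    rw [Scheme.basicOpen_appLE]
    exact ⟨fun h => h.2, fun h => ⟨mem_O Z z, h⟩⟩
  rw [h1]
  let ι' := Proj.awayι PP (X j) (X_mem j) one_pos
  obtain ⟨q, hq⟩ : ∃ q, ι' q = Z.subschemeι z := by
    have : Z.subschemeι z ∈ ι'.opensRange := by
      rw [Proj.opensRange_awayι]; exact O_le Z z (mem_O Z z)
    exact this
  rw [← hq]
  have e : (⊤ : (Spec (CommRingCat.of (Away PP (X j : MvPolynomial (Fin (N + 1)) k)))).Opens) ≤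
      ι' ⁻¹ᵁ SepImm.D (k := k) j := by
    rw [show SepImm.D (k := k) j = ι'.opensRange from (Proj.opensRange_awayι PP _ _ _).symm,
      Scheme.Hom.preimage_opensRange]
  have h2 : ι' q ∈ (CohB1.ProjSpace N k).basicOpen (Proj.awayToSection PP (X j) w) ↔
      q ∈ (Spec (CommRingCat.of (Away PP (X j : MvPolynomial (Fin (N + 1)) k)))).basicOpen
        ((ι'.appLE _ ⊤ e).hom (Proj.awayToSection PP (X j) w)) := by
    rw [Scheme.basicOpen_appLE]
    exact ⟨fun h => ⟨trivial, h⟩, fun h => h.2⟩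
  rw [h2, Ample.ProjMap.awayι_appLE_awayToSection PP (X_mem j) one_pos w e, basicOpen_eq_of_affine]
  rcases Nat.eq_zero_or_pos d with rfl | hd
  · have hG' : G = C (coeff 0 G) := by
      have h := homogeneousComponent_of_mem (m := 0) hG
      rw [if_pos rfl, homogeneousComponent_zero] at h
      exact h.symm
    have hw : w = cst (X j) (coeff 0 G) := by
      show eval₂Hom _ _ G = _
      conv_lhs => rw [hG']
      rw [eval₂Hom_C]
    rw [hw]
    by_cases h0 : coeff 0 G = 0
    · rw [h0, map_zero, PrimeSpectrum.basicOpen_zero]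
      exact iff_of_false id fun h => h (by rw [hG', h0, map_zero]; exact zero_mem _)
    · refine iff_of_true ?_ fun h => (ι' q).isPrime.ne_top ?_
      · rw [PrimeSpectrum.mem_basicOpen]
        exact fun h => q.isPrime.ne_top (Ideal.eq_top_of_isUnit_mem _ h ((Ne.isUnit h0).map _))
      · exact Ideal.eq_top_of_isUnit_mem _ h (by rw [hG']; exact (Ne.isUnit h0).map C)
  · have h3 : w = HomogeneousLocalization.Away.isLocalizationElem (X_mem j) hG := by
      show eval₂Hom _ _ G = _
      rw [eval_homog j d G (by simpa using hG)]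
      exact HomogeneousLocalization.val_injective _ (by simp only [HomogeneousLocalization.Away.val_mk, pow_one])
    have h4 := Proj.awayι_preimage_basicOpen (𝒜 := PP) (X_mem j) one_pos hG hd
    rw [h3]
    exact (SetLike.ext_iff.1 h4 q).symm

theorem isUnit_of_mem_basicOpen (z : Z.subscheme) (g : Γ(Z.subscheme, O Z z))
    (h : z ∈ Z.subscheme.basicOpen g) : IsUnit g :=
  AlgebraicGeometry.RingedSpace.isUnit_of_isUnit_germ _ (O Z z) g fun y hy => by
    have hyz : y = z := hy
    exact (Scheme.mem_basicOpen _ g y hy).1 (hyz.symm ▸ h)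

theorem isNilpotent_of_notMem_basicOpen (z : Z.subscheme) (g : Γ(Z.subscheme, O Z z))
    (h : z ∉ Z.subscheme.basicOpen g) : IsNilpotent g := by
  have hbot : Z.subscheme.basicOpen g = ⊥ := eq_bot_iff.2 fun y hy => by
    have hyz : y = z := Z.subscheme.basicOpen_le g hy
    exact h (hyz ▸ hy)
  have hsub : Subsingleton Γ(Z.subscheme, Z.subscheme.basicOpen g) := by
    rw [hbot]
    exact CommRingCat.subsingleton_of_isTerminal (Z.subscheme.sheaf.isTerminalOfEmpty)
  obtain ⟨n, hn⟩ := exists_pow_mul_eq_zero_of_res_basicOpen_eq_zero_of_isCompact Z.subscheme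
    (U := O Z z) isCompact_singleton 1 g (@Subsingleton.elim _ hsub _ _)
  exact ⟨n, by rwa [mul_one] at hn⟩

/-- Values may be prescribed at each point. -/
theorem exists_glue (a : ∀ z, Γ(Z.subscheme, O Z z)) (U : Z.subscheme.Opens) :
    ∃ g : Γ(Z.subscheme, U), ∀ z (hz : O Z z ≤ U), res hz g = a z := by
  let V : U → Z.subscheme.Opens := fun z => O Z z.1
  obtain ⟨g, hg, -⟩ := TopCat.Sheaf.existsUnique_gluing' Z.subscheme.sheaf V U
    (fun z => homOfLE fun y hy => by obtain rfl : y = z.1 := hy; exact z.2)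
    (fun y hy => Opens.mem_iSup.2 ⟨⟨y, hy⟩, mem_O Z y⟩) (fun z => a z.1) (by
      intro p q
      by_cases hpq : p = q
      · subst hpq; rfl
      · refine @Subsingleton.elim _ ?_ _ _
        show Subsingleton Γ(Z.subscheme, V p ⊓ V q)
        rw [show V p ⊓ V q = ⊥ from eq_bot_iff.2 fun y hy => by
            obtain ⟨(h1 : y = p.1), (h2 : y = q.1)⟩ := hy
            exact hpq (Subtype.ext (h1.symm.trans h2))]
        exact CommRingCat.subsingleton_of_isTerminal (Z.subscheme.sheaf.isTerminalOfEmpty))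
  exact ⟨g, fun z hz => hg ⟨z, hz (mem_O Z z)⟩⟩

theorem exists_π_eq (z : Z.subscheme) (a : Γ(Z.subscheme, O Z z)) : ∃ (d : ℕ), ∃ F ∈ PP d, π Z z F = a := by
  classical
  obtain ⟨g, hg⟩ := exists_glue Z (fun y => if h : z = y then h ▸ a else 0) (Z.subschemeι ⁻¹ᵁ SepImm.D (k := k) (jj Z z))
  obtain ⟨s, hs⟩ := Scheme.Hom.app_surjective Z.subschemeι (SepImm.D (k := k) (jj Z z))
    (Proj.isAffineOpen_basicOpen PP _ (X_mem _) one_pos) g
  obtain ⟨w, rfl⟩ := (GradedAlg.awayToSection_bijective (𝒜 := PP) (X (jj Z z)) (X_mem _) one_pos).2 s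
  obtain ⟨m, F, hF, rfl⟩ := HomogeneousLocalization.Away.mk_surjective PP (X_mem (jj Z z)) w
  refine ⟨m, F, by simpa using hF, ?_⟩
  show (Z.subschemeι.appLE _ _ (O_le Z z)).hom (Proj.awayToSection PP _ (eval₂Hom _ _ F)) = a
  rw [eval_homog _ m F hF]
  refine Eq.trans ?_ ((hg z (O_le Z z)).trans (dif_pos rfl))
  rw [← hs]
  rfl

/-- The constants at the points. -/
instance instAlgebraA : Algebra k (∀ z, Γ(Z.subscheme, O Z z)) :=
  (Pi.ringHom fun z => (π Z z).comp MvPolynomial.C).toAlgebra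

/-- Forms as functions on the subscheme. -/
def piAlg : MvPolynomial (Fin (N + 1)) k →ₐ[k] ∀ z, Γ(Z.subscheme, O Z z) :=
  { Pi.ringHom (π Z) with commutes' := fun r => rfl }

theorem smul_A_apply (r : k) (f : ∀ z, Γ(Z.subscheme, O Z z)) (z : Z.subscheme) :
    (r • f) z = π Z z (C r) * f z :=
  congrFun (Algebra.smul_def r f) z

theorem res_smul_sec (z : Z.subscheme) (c : Γ(Z.subscheme, ⊤)) (t : Γ(Coh.structureModule Z.subscheme, ⊤)) :
    res (le_top : O Z z ≤ ⊤) (show Γ(Z.subscheme, ⊤) from c • t) =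
      res (le_top : O Z z ≤ ⊤) c * res (le_top : O Z z ≤ ⊤) (show Γ(Z.subscheme, ⊤) from t) :=
  map_mul _ _ _

/-- Global functions on the points. -/
def gl (g : Γ(Z.subscheme, ⊤)) : ∀ z, Γ(Z.subscheme, O Z z) := fun z => res (le_top : O Z z ≤ ⊤) g

theorem gl_add (g g' : Γ(Z.subscheme, ⊤)) : gl Z (g + g') = gl Z g + gl Z g' :=
  funext fun z => map_add (res (le_top : O Z z ≤ ⊤)) g g'

theorem gl_surjective : Function.Surjective (gl Z) := fun a =>
  let ⟨g, hg⟩ := exists_glue Z a ⊤
  ⟨g, funext fun z => hg z le_top⟩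

theorem gl_smul (r : k) (c g : Γ(Z.subscheme, ⊤))
    (hc : ∀ z, res (le_top : O Z z ≤ ⊤) c = π Z z (C r)) : gl Z (c * g) = r • gl Z g :=
  funext fun z => ((map_mul (res (le_top : O Z z ≤ ⊤)) c g).trans
    (congrArg (fun q => q * res (le_top : O Z z ≤ ⊤) g) (hc z))).trans (smul_A_apply Z r (gl Z g) z).symm

theorem toGlobal_res [Z.subscheme.Over (Spec (CommRingCat.of k))]
    (hq : (Z.subscheme ↘ Spec (CommRingCat.of k)) = Z.subschemeι ≫ CohB1.ProjSpace.toSpec N k)
    (z : Z.subscheme) (r : k) :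
    res (le_top : O Z z ≤ ⊤) (Coh.toGlobal (Z.subscheme ↘ Spec (CommRingCat.of k)) r) = π Z z (C r) := by
  rw [π_C, hq]
  rfl

theorem finite_A [Finite Z.subscheme] : Module.Finite k (∀ z, Γ(Z.subscheme, O Z z)) := by
  haveI := CMReg.isNoetherian_projSpace (n := N) (k := k)
  haveI := Chow.isProper_toSpec N k
  letI : Z.subscheme.Over (Spec (CommRingCat.of k)) := ⟨Z.subschemeι ≫ CohB1.ProjSpace.toSpec N k⟩
  haveI : IsProper (Z.subscheme ↘ Spec (CommRingCat.of k)) :=
    inferInstanceAs (IsProper (Z.subschemeι ≫ CohB1.ProjSpace.toSpec N k))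
  haveI := Euler.isNoetherian_of_proper (X := Z.subscheme) k
  haveI := Euler.finiteDimensional_HH k (Euler.isCoh_of_isInvertible (Euler.isInvertible_structure (X := Z.subscheme))) 0
  let e : Coh.HH Z.subscheme (Coh.structureModule Z.subscheme) 0 → Γ(Z.subscheme, ⊤) :=
    fun x => ProjCoh.H0top (Coh.structureModule Z.subscheme) x
  have hadd : ∀ x y, e (x + y) = e x + e y := fun x y => map_add _ x y
  have hsmul : ∀ (r : k) x, e (r • x) = (show Γ(Z.subscheme, ⊤) from Coh.toGlobal (Z.subscheme ↘ Spec (CommRingCat.of k)) r) * e x :=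
    fun r x => ProjCoh.H0top_smul _ r x
  have hsurj : Function.Surjective e := (ProjCoh.H0top (Coh.structureModule Z.subscheme)).surjective
  clear_value e
  let L : Coh.HH Z.subscheme (Coh.structureModule Z.subscheme) 0 →ₗ[k] ∀ z, Γ(Z.subscheme, O Z z) :=
    { toFun := fun x => gl Z (e x)
      map_add' := fun x y => (congrArg (gl Z) (hadd x y)).trans (gl_add Z _ _)
      map_smul' := fun r x => (congrArg (gl Z) (hsmul r x)).trans (gl_smul Z r _ _ (fun z => toGlobal_res Z rfl z r)) }
  exact Module.Finite.of_surjective L ((gl_surjective Z).comp hsurj)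

theorem exists_sep [Finite Z.subscheme] (hcl : ∀ z : Z.subscheme, IsClosed ({z} : Set Z.subscheme))
    (z : Z.subscheme) : ∃ (d : ℕ), ∃ E ∈ PP d, IsUnit (π Z z E) ∧ ∀ y, y ≠ z → π Z y E = 0 := by
  classical
  haveI := Fintype.ofFinite Z.subscheme
  have h : ∀ y, y ≠ z → ∃ (d : ℕ), ∃ E ∈ PP d, IsUnit (π Z z E) ∧ π Z y E = 0 := by
    intro y hy
    have hne : ¬ (Z.subschemeι y).asHomogeneousIdeal ≤ (Z.subschemeι z).asHomogeneousIdeal := by
      intro hle
      have hs : Z.subschemeι y ⤳ Z.subschemeι z :=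
        (ProjectiveSpectrum.le_iff_mem_closure PP (Z.subschemeι y) (Z.subschemeι z)).1 hle |> specializes_iff_mem_closure.2
      have hs' : y ⤳ z := Z.subschemeι.isClosedEmbedding.isInducing.specializes_iff.1 hs
      exact hy ((hcl y).closure_eq ▸ specializes_iff_mem_closure.1 hs').symm
    obtain ⟨a, hay, haz⟩ := SetLike.not_le_iff_exists.1 hne
    have : ∃ d, (DirectSum.decompose PP a d : MvPolynomial (Fin (N + 1)) k) ∉
        (Z.subschemeι z).asHomogeneousIdeal := by
      by_contra hall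
      push Not at hall
      refine haz ?_
      rw [← DirectSum.sum_support_decompose PP a]
      exact sum_mem fun d _ => hall d
    obtain ⟨d, hd⟩ := this
    set G : MvPolynomial (Fin (N + 1)) k := ↑(DirectSum.decompose PP a d)
    have hG : G ∈ PP d := SetLike.coe_mem _
    have hGy : G ∈ (Z.subschemeι y).asHomogeneousIdeal :=
      (Z.subschemeι y).asHomogeneousIdeal.isHomogeneous d hay
    have hu := isUnit_of_mem_basicOpen Z z _ ((mem_basicOpen_π Z z G hG).2 hd)
    obtain ⟨M, hM⟩ := isNilpotent_of_notMem_basicOpen Z y _ (fun h => (mem_basicOpen_π Z y G hG).1 h hGy)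
    exact ⟨M * d, G ^ M, SetLike.pow_mem_graded M hG, by rw [map_pow]; exact hu.pow M, by rw [map_pow, hM]⟩
  choose d E hE hu h0 using h
  refine ⟨∑ y ∈ (Finset.univ.erase z).attach, d y.1 (Finset.ne_of_mem_erase y.2),
    ∏ y ∈ (Finset.univ.erase z).attach, E y.1 (Finset.ne_of_mem_erase y.2),
    SetLike.prod_mem_graded _ _ _ fun y _ => hE _ _, ?_, fun y hy => ?_⟩
  · rw [map_prod]
    exact IsUnit.prod_iff.2 fun y _ => hu _ _
  · rw [map_prod]
    exact Finset.prod_eq_zero (Finset.mem_attach _ ⟨y, Finset.mem_erase.2 ⟨hy, Finset.mem_univ _⟩⟩) (h0 _ _)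

/-- Forms of high degree take all values. -/
theorem exists_degree [Finite Z.subscheme] (hcl : ∀ z : Z.subscheme, IsClosed ({z} : Set Z.subscheme)) :
    ∃ n, 1 ≤ n ∧ (CohB1.polyGrading N k n).map (piAlg Z).toLinearMap = ⊤ := by
  classical
  haveI := Fintype.ofFinite Z.subscheme
  haveI := finite_A Z
  have hz : ∀ (z : Z.subscheme) (a : Γ(Z.subscheme, O Z z)), ∃ n₀, ∀ n, n₀ ≤ n →
      Pi.single z a ∈ (CohB1.polyGrading N k n).map (piAlg Z).toLinearMap := by
    intro z a
    obtain ⟨e, E, hE, hu, h0⟩ := exists_sep Z hcl z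
    obtain ⟨d, F, hF, hFa⟩ := exists_π_eq Z z (↑hu.unit⁻¹ * a)
    refine ⟨e + d, fun n hn => ⟨E * (F * X (jj Z z) ^ (n - e - d)), ?_, funext fun y => ?_⟩⟩
    · have := SetLike.mul_mem_graded hE (SetLike.mul_mem_graded hF (SetLike.pow_mem_graded (n - e - d) (X_mem (R := k) (jj Z z))))
      rwa [smul_eq_mul, mul_one, show e + (d + (n - e - d)) = n by omega] at this
    · show π Z y _ = _
      by_cases hy : y = z
      · subst hy
        rw [Pi.single_eq_same, map_mul, map_mul, map_pow, π_X_self, one_pow, mul_one, hFa, ← mul_assoc,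
          IsUnit.mul_val_inv, one_mul]
      · rw [Pi.single_eq_of_ne hy, map_mul, h0 y hy, zero_mul]
  choose n₀ hn₀ using hz
  obtain ⟨S, hS⟩ := (Module.finite_def.1 (finite_A Z))
  let n := 1 + ∑ b ∈ S, ∑ z, n₀ z (b z)
  refine ⟨n, Nat.le_add_right _ _, eq_top_iff.2 (hS ▸ Submodule.span_le.2 fun b hb => ?_)⟩
  rw [← Finset.univ_sum_single b]
  refine sum_mem fun z _ => hn₀ z (b z) n ?_
  have h1 := Finset.single_le_sum (f := fun b => ∑ z, n₀ z (b z)) (fun _ _ => Nat.zero_le _) hb
  have h2 := Finset.single_le_sum (f := fun z => n₀ z (b z)) (fun _ _ => Nat.zero_le _) (Finset.mem_univ z)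
  omega

include hZ in
/-- Quadrics take all values when linear forms miss at most one dimension. -/
theorem map_quadrics_eq_top [Finite Z.subscheme] (a₀ : ∀ z, Γ(Z.subscheme, O Z z))
    (h : ∀ b : ∀ z, Γ(Z.subscheme, O Z z), ∃ F ∈ PP 1, ∃ c : k, b = piAlg Z F + c • a₀) :
    (CohB1.polyGrading N k 2).map (piAlg Z).toLinearMap = ⊤ := by
  haveI := finite_A Z
  obtain ⟨n, hn, htop⟩ := exists_degree Z (isClosed_point Z hZ)
  have hpow : ∀ m, (CohB1.polyGrading N k m).map (piAlg Z).toLinearMap =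
      ((CohB1.polyGrading N k 1).map (piAlg Z).toLinearMap) ^ m := fun m => by
    rw [← Submodule.map_pow]
    exact congrArg _ (MvPolynomial.homogeneousSubmodule_one_pow (σ := Fin (N + 1)) (R := k) m).symm
  have := mul_self_eq_top _ a₀ (fun b => by
    obtain ⟨F, hF, c, hc⟩ := h b
    exact ⟨_, Submodule.mem_map_of_mem hF, c, hc⟩) hn ((hpow n).symm.trans htop)
  rw [hpow 2, pow_two]
  exact this

end GrothLib.ZeroSub9
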